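import Mathlib
import Cfsg.Prelude.Def_LieExceptional
import Cfsg.Agent.Lib.helper3.BNLen
import Cfsg.Agent.Lib.helper14.BNCells

/-!
Project DBN (S2548), abstract part: "weak" (B,N)-data inside an ambient group `Γ` (all axioms of a
(B,N)-pair except `B ⊔ N = ⊤` and `s B s ≠ B`) and the genuine `Cfsg.BNPair` they induce on the
subgroup `B ⊔ N` once `s B s ≠ B` holds for the chosen generators.
-/

set_option autoImplicit false

namespace Cfsg.Agent.Lib.helper14.DBN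

open Cfsg.Agent.Lib.helper3 Cfsg.Agent.Lib.helper14 DoubleCoset

variable {Γ : Type*} [Group Γ]

/-- weak (B,N)-data in an ambient group: everything except generation and `s B s ≠ B` -/
structure WeakBN (B N : Subgroup Γ) (S : Set Γ) : Prop where
  subset : S ⊆ (N : Set Γ)
  conj_mem : ∀ n ∈ N, ∀ t ∈ B ⊓ N, n * t * n⁻¹ ∈ B
  sq_mem : ∀ s ∈ S, s * s ∈ B
  inj : ∀ s ∈ S, ∀ s' ∈ S, s⁻¹ * s' ∈ B → s = s'
  closure_sup : Subgroup.closure S ⊔ (B ⊓ N) = N
  mul_mem_union : ∀ s ∈ S, ∀ n ∈ N, ∀ b ∈ B,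
    s * b * n ∈ doubleCoset (s * n) (B : Set Γ) B ∪ doubleCoset n (B : Set Γ) B

variable {B N : Subgroup Γ} {S : Set Γ}

theorem weak_sup_eq_top : B.subgroupOf (B ⊔ N) ⊔ N.subgroupOf (B ⊔ N) = ⊤ := by
  rw [← Subgroup.subgroupOf_sup le_sup_left le_sup_right, Subgroup.subgroupOf_self]

theorem weak_closure_sup (h : WeakBN B N S) :
    Subgroup.closure {x : ↥(B ⊔ N) | (x : Γ) ∈ S} ⊔
      (B.subgroupOf (B ⊔ N) ⊓ N.subgroupOf (B ⊔ N)) = N.subgroupOf (B ⊔ N) := by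
  apply Subgroup.map_injective (B ⊔ N).subtype_injective
  have hinf : B.subgroupOf (B ⊔ N) ⊓ N.subgroupOf (B ⊔ N) = (B ⊓ N).subgroupOf (B ⊔ N) := by
    ext x
    simp only [Subgroup.mem_inf, Subgroup.mem_subgroupOf]
  rw [Subgroup.map_sup, MonoidHom.map_closure, Subgroup.subgroupOf_map_subtype, hinf,
    Subgroup.subgroupOf_map_subtype]
  have hS : (B ⊔ N).subtype '' {x : ↥(B ⊔ N) | (x : Γ) ∈ S} = S := by
    ext y
    constructor
    · rintro ⟨x, hx, rfl⟩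
      exact hx
    · intro hy
      exact ⟨⟨y, le_sup_right (a := B) (h.subset hy)⟩, hy, rfl⟩
  rw [hS]
  have h1 : B ⊓ N ⊓ (B ⊔ N) = B ⊓ N := inf_eq_left.2 (inf_le_left.trans le_sup_left)
  have h2 : N ⊓ (B ⊔ N) = N := inf_eq_left.2 le_sup_right
  rw [h1, h2, h.closure_sup]

/-- the genuine (B,N)-pair on `B ⊔ N` -/
def bnSub (h : WeakBN B N S)
    (hne : ∀ s ∈ S, (fun b : Γ => s * b * s) '' (B : Set Γ) ≠ (B : Set Γ)) :
    Cfsg.BNPair ↥(B ⊔ N) where
  B := B.subgroupOf (B ⊔ N)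
  N := N.subgroupOf (B ⊔ N)
  S := {x | (x : Γ) ∈ S}
  sup_eq_top := weak_sup_eq_top
  conj_mem := by
    intro n hn t ht
    rw [Subgroup.mem_subgroupOf] at hn ⊢
    have ht' : (t : Γ) ∈ B ⊓ N := ⟨Subgroup.mem_subgroupOf.1 ht.1, Subgroup.mem_subgroupOf.1 ht.2⟩
    exact h.conj_mem _ hn _ ht'
  subset := by
    intro x hx
    exact Subgroup.mem_subgroupOf.2 (h.subset hx)
  sq_mem := by
    intro s hs
    exact Subgroup.mem_subgroupOf.2 (h.sq_mem _ hs)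
  inj := by
    intro s hs s' hs' hss
    exact Subtype.ext (h.inj _ hs _ hs' (Subgroup.mem_subgroupOf.1 hss))
  closure_sup := weak_closure_sup h
  mul_mem_union := by
    intro s hs n hn b hb
    rcases h.mul_mem_union _ hs _ (Subgroup.mem_subgroupOf.1 hn) _ (Subgroup.mem_subgroupOf.1 hb)
      with h1 | h1
    · left
      obtain ⟨b1, hb1, b2, hb2, e⟩ := mem_doubleCoset.1 h1
      refine mem_doubleCoset.2 ⟨⟨b1, le_sup_left (b := N) hb1⟩, Subgroup.mem_subgroupOf.2 hb1,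
        ⟨b2, le_sup_left (b := N) hb2⟩, Subgroup.mem_subgroupOf.2 hb2, ?_⟩
      exact Subtype.ext e
    · right
      obtain ⟨b1, hb1, b2, hb2, e⟩ := mem_doubleCoset.1 h1
      refine mem_doubleCoset.2 ⟨⟨b1, le_sup_left (b := N) hb1⟩, Subgroup.mem_subgroupOf.2 hb1,
        ⟨b2, le_sup_left (b := N) hb2⟩, Subgroup.mem_subgroupOf.2 hb2, ?_⟩
      exact Subtype.ext e
  conj_ne := by
    intro s hs heq
    apply hne _ hs
    ext y
    constructor
    · rintro ⟨b, hb, rfl⟩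
      have h1 : s * ⟨b, le_sup_left (b := N) hb⟩ * s ∈
          ((B.subgroupOf (B ⊔ N) : Subgroup ↥(B ⊔ N)) : Set ↥(B ⊔ N)) := by
        rw [← heq]
        exact ⟨⟨b, le_sup_left (b := N) hb⟩, Subgroup.mem_subgroupOf.2 hb, rfl⟩
      exact Subgroup.mem_subgroupOf.1 h1
    · intro hy
      have h1 : (⟨y, le_sup_left (b := N) hy⟩ : ↥(B ⊔ N)) ∈
          (fun b : ↥(B ⊔ N) => s * b * s) '' ((B.subgroupOf (B ⊔ N) : Subgroup ↥(B ⊔ N)) :
            Set ↥(B ⊔ N)) := by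
        rw [heq]
        exact Subgroup.mem_subgroupOf.2 hy
      obtain ⟨b, hb, e⟩ := h1
      exact ⟨(b : Γ), Subgroup.mem_subgroupOf.1 hb, congrArg Subtype.val e⟩

variable (h : WeakBN B N S)
  (hne : ∀ s ∈ S, (fun b : Γ => s * b * s) '' (B : Set Γ) ≠ (B : Set Γ))

theorem bnSub_B : (bnSub h hne).B = B.subgroupOf (B ⊔ N) := rfl

theorem bnSub_N : (bnSub h hne).N = N.subgroupOf (B ⊔ N) := rfl

theorem bnSub_S : (bnSub h hne).S = {x : ↥(B ⊔ N) | (x : Γ) ∈ S} := rfl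

theorem mem_bnSub_B (x : ↥(B ⊔ N)) : x ∈ (bnSub h hne).B ↔ (x : Γ) ∈ B := Iff.rfl

theorem mem_bnSub_N (x : ↥(B ⊔ N)) : x ∈ (bnSub h hne).N ↔ (x : Γ) ∈ N := Iff.rfl

theorem mem_bnSub_S (x : ↥(B ⊔ N)) : x ∈ (bnSub h hne).S ↔ (x : Γ) ∈ S := Iff.rfl

/-- double cosets in `B ⊔ N` are the double cosets in `Γ` -/
theorem mem_dc_bnSub (x y : ↥(B ⊔ N)) :
    x ∈ dc (bnSub h hne) y ↔ (x : Γ) ∈ doubleCoset (y : Γ) (B : Set Γ) B := by
  rw [mem_dc, mem_doubleCoset]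
  constructor
  · rintro ⟨b, hb, b', hb', e⟩
    exact ⟨(b : Γ), hb, (b' : Γ), hb', congrArg Subtype.val e⟩
  · rintro ⟨b, hb, b', hb', e⟩
    exact ⟨⟨b, le_sup_left (b := N) hb⟩, hb, ⟨b', le_sup_left (b := N) hb'⟩, hb', Subtype.ext e⟩

/-- the ascent predicate in the ambient group -/
def PpW (B : Subgroup Γ) (s n : Γ) : Prop :=
  ∀ b ∈ B, s * b * n ∈ doubleCoset (s * n) (B : Set Γ) B

theorem Pp_bnSub (s n : ↥(B ⊔ N)) : Pp (bnSub h hne) s n ↔ PpW B (s : Γ) (n : Γ) := by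
  constructor
  · intro hp b hb
    have := hp ⟨b, le_sup_left (b := N) hb⟩ hb
    rw [mem_dc_bnSub] at this
    exact this
  · intro hp b hb
    rw [mem_dc_bnSub]
    exact hp (b : Γ) hb

/-- weak Bruhat decomposition: every element of `B ⊔ N` lies in some `B n B` -/
theorem weak_bruhat (h : WeakBN B N S) (g : Γ) (hg : g ∈ B ⊔ N) :
    ∃ n ∈ N, g ∈ doubleCoset n (B : Set Γ) B := by
  have hX1 : ∀ x, (∃ n ∈ N, x ∈ doubleCoset n (B : Set Γ) B) → ∀ b ∈ B,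
      ∃ n ∈ N, b * x ∈ doubleCoset n (B : Set Γ) B := by
    rintro x ⟨n, hn, hx⟩ b hb
    obtain ⟨b1, hb1, b2, hb2, rfl⟩ := mem_doubleCoset.1 hx
    exact ⟨n, hn, mem_doubleCoset.2 ⟨b * b1, B.mul_mem hb hb1, b2, hb2, by group⟩⟩
  have hX2 : ∀ x, (∃ n ∈ N, x ∈ doubleCoset n (B : Set Γ) B) → ∀ s ∈ S,
      ∃ n ∈ N, s * x ∈ doubleCoset n (B : Set Γ) B := by
    rintro x ⟨n, hn, hx⟩ s hs
    obtain ⟨b1, hb1, b2, hb2, rfl⟩ := mem_doubleCoset.1 hx
    rcases h.mul_mem_union s hs n hn b1 hb1 with h1 | h1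
    · obtain ⟨c1, hc1, c2, hc2, e⟩ := mem_doubleCoset.1 h1
      refine ⟨s * n, N.mul_mem (h.subset hs) hn, mem_doubleCoset.2 ⟨c1, hc1, c2 * b2,
        B.mul_mem hc2 hb2, ?_⟩⟩
      calc s * (b1 * n * b2) = (s * b1 * n) * b2 := by group
        _ = (c1 * (s * n) * c2) * b2 := by rw [e]
        _ = c1 * (s * n) * (c2 * b2) := by group
    · obtain ⟨c1, hc1, c2, hc2, e⟩ := mem_doubleCoset.1 h1
      refine ⟨n, hn, mem_doubleCoset.2 ⟨c1, hc1, c2 * b2, B.mul_mem hc2 hb2, ?_⟩⟩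
      calc s * (b1 * n * b2) = (s * b1 * n) * b2 := by group
        _ = (c1 * n * c2) * b2 := by rw [e]
        _ = c1 * n * (c2 * b2) := by group
  have hX3 : ∀ x, (∃ n ∈ N, x ∈ doubleCoset n (B : Set Γ) B) → ∀ s ∈ S,
      ∃ n ∈ N, s⁻¹ * x ∈ doubleCoset n (B : Set Γ) B := by
    intro x hx s hs
    have e : s⁻¹ * x = (s * s)⁻¹ * (s * x) := by group
    rw [e]
    exact hX1 _ (hX2 x hx s hs) _ (B.inv_mem (h.sq_mem s hs))
  have hgen : B ⊔ N = Subgroup.closure ((B : Set Γ) ∪ S) := by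
    apply le_antisymm
    · rw [sup_le_iff]
      refine ⟨fun x hx => Subgroup.subset_closure (Or.inl hx), ?_⟩
      rw [← h.closure_sup, sup_le_iff]
      exact ⟨Subgroup.closure_mono Set.subset_union_right,
        fun x hx => Subgroup.subset_closure (Or.inl hx.1)⟩
    · rw [Subgroup.closure_le]
      rintro x (hx | hx)
      · exact le_sup_left (b := N) hx
      · exact le_sup_right (a := B) (h.subset hx)
  rw [hgen, ← Subgroup.mem_toSubmonoid, Subgroup.closure_toSubmonoid] at hg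
  have key : ∀ y ∈ Submonoid.closure (((B : Set Γ) ∪ S) ∪ ((B : Set Γ) ∪ S)⁻¹),
      ∀ x, (∃ n ∈ N, x ∈ doubleCoset n (B : Set Γ) B) →
        ∃ n ∈ N, y * x ∈ doubleCoset n (B : Set Γ) B := by
    intro y hy
    induction hy using Submonoid.closure_induction with
    | mem y hy =>
      rcases hy with (hy | hy) | hy
      · exact fun x hx => hX1 x hx y hy
      · exact fun x hx => hX2 x hx y hy
      · rcases hy with hy | hy
        · intro x hx
          have := hX1 x hx y⁻¹⁻¹ (B.inv_mem hy)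
          rwa [inv_inv] at this
        · intro x hx
          have := hX3 x hx y⁻¹ hy
          rwa [inv_inv] at this
    | one => intro x hx; rwa [one_mul]
    | mul y z _ _ ihy ihz =>
      intro x hx
      rw [mul_assoc]
      exact ihy _ (ihz x hx)
  have := key g hg 1 ⟨1, N.one_mem, mem_doubleCoset.2 ⟨1, B.one_mem, 1, B.one_mem, by group⟩⟩
  rwa [mul_one] at this

end Cfsg.Agent.Lib.helper14.DBN
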