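import Mathlib
import Cfsg.Agent.Lib.helper14.OBNb
import Cfsg.Agent.Lib.helper14.DBN.Weak

/-!
Project DBN (S2548: Steinberg character of `PΩ⁺_{2m}(F)`, all finite `F`): definitions.

Ambient group `GS n F = GJ n (Sid F)` (`n` even): the isometry group of the symmetric bilinear form
`hJ (Sid F) u v = Σ u_i v_{n-1-i}` (the orthogonal group `O⁺_n(F)` when `2 ≠ 0`, the symplectic
group when `2 = 0`).  Inside it `OQ n F`, the isometry group of the quadratic form
`Qh n v = Σ_{k < n/2} v_k v_{n-1-k}`, with Borel subgroup `BO = BU ⊓ OQ`, monomial group `NU`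
(all of it lies in `OQ`), even monomial group `NE`, torus `TO = BU ⊓ NU`, unipotent group
`UO = UU ⊓ OQ`.  The `D_{n/2}` generators: `sRef k` (`k + 1 < n / 2`) and `sD = t * sRef kP * t`
where `t = tL = sRef kL` is the last (degenerate) node of the weak `B_{n/2}` system.
-/

set_option autoImplicit false

namespace Cfsg.Agent.Lib.helper14.DBN

open Matrix
open Cfsg.Agent.Lib.helper14.UBN Cfsg.Agent.Lib.helper14.OBN

universe u
variable {F : Type u} [Field F] {n : ℕ}

/-- the ambient group -/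
abbrev GS (n : ℕ) (F : Type u) [Field F] : Type u := ↥(GJ n (Sid F))

/-- the hyperbolic quadratic form `Σ_{k < n/2} v_k v_{n-1-k}` -/
def Qh (n : ℕ) (v : Fin n → F) : F := ∑ k : Fin (n / 2), v (pa k) * v (rv (pa k))

/-- the isometry group of `Qh` inside the ambient group -/
def OQ (n : ℕ) (F : Type u) [Field F] : Subgroup (GS n F) where
  carrier := {g | ∀ v : Fin n → F, Qh n (mt g *ᵥ v) = Qh n v}
  mul_mem' := by
    intro a b ha hb v
    rw [mt_mul_mulVec, ha, hb]
  one_mem' := by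
    intro v
    rw [mt_one_mulVec]
  inv_mem' := by
    intro g hg v
    have := hg (mt g⁻¹ *ᵥ v)
    rw [mt_mulVec_inv] at this
    exact this.symm

theorem mem_OQ (g : GS n F) : g ∈ OQ n F ↔ ∀ v : Fin n → F, Qh n (mt g *ᵥ v) = Qh n v := Iff.rfl

/-- the Borel subgroup of `OQ` -/
def BO (n : ℕ) (F : Type u) [Field F] : Subgroup (GS n F) := BU n (Sid F) ⊓ OQ n F

/-- the unipotent radical -/
def UO (n : ℕ) (F : Type u) [Field F] : Subgroup (GS n F) := UU n (Sid F) ⊓ OQ n F

/-- the torus -/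
def TO (n : ℕ) (F : Type u) [Field F] : Subgroup (GS n F) := BU n (Sid F) ⊓ NU n (Sid F)

/-- the even monomial subgroup (Weyl group of type `D`) -/
def NE (n : ℕ) (F : Type u) [Field F] : Subgroup (GS n F) where
  carrier := {g | ∃ π : Equiv.Perm (Fin n), RvC π ∧ IsMono (mt g) π ∧ Equiv.Perm.sign π = 1}
  mul_mem' := by
    rintro a b ⟨π, hπ, ha, hs⟩ ⟨ρ, hρ, hb, hs'⟩
    exact ⟨π * ρ, RvC_mul hπ hρ, isMono_mul ha hb, by rw [Equiv.Perm.sign_mul, hs, hs', one_mul]⟩
  one_mem' := ⟨1, RvC_one, isMono_one, Equiv.Perm.sign_one⟩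
  inv_mem' := by
    rintro g ⟨π, hπ, hg, hs⟩
    exact ⟨π⁻¹, RvC_inv hπ, isMono_inv g hπ hg, by rw [Equiv.Perm.sign_inv, hs]⟩

theorem mem_NE (g : GS n F) : g ∈ NE n F ↔
    ∃ π : Equiv.Perm (Fin n), RvC π ∧ IsMono (mt g) π ∧ Equiv.Perm.sign π = 1 := Iff.rfl

/-- the last node -/
def kL (hn : 2 ≤ n) : Fin (n / 2) := ⟨n / 2 - 1, by omega⟩

/-- the node before the last -/
def kP (hn : 4 ≤ n) : Fin (n / 2) := ⟨n / 2 - 2, by omega⟩

theorem kL_val (hn : 2 ≤ n) : (kL hn).val = n / 2 - 1 := rfl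

theorem kP_val (hn : 4 ≤ n) : (kP hn).val = n / 2 - 2 := rfl

/-- the last (degenerate) reflection `t` -/
def tL (F : Type u) [Field F] (hn : 2 ≤ n) : GS n F := sRef (S := Sid F) (kL hn)

/-- the new generator `t s t` of the `D` system -/
def sD (F : Type u) [Field F] (hn : 4 ≤ n) : GS n F :=
  tL F (le_trans (by norm_num) hn) * sRef (S := Sid F) (kP hn) * tL F (le_trans (by norm_num) hn)

/-- the generators of type `D` -/
def SD (F : Type u) [Field F] (hn : 4 ≤ n) : Set (GS n F) :=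
  {s | ∃ k : Fin (n / 2), k.val + 1 < n / 2 ∧ s = sRef (S := Sid F) k} ∪ {sD F hn}

/-- an enumeration of `SD` by `i < n / 2` -/
def sigD (F : Type u) [Field F] (hn : 4 ≤ n) (i : ℕ) : GS n F :=
  if h : i + 1 < n / 2 then sRef (S := Sid F) ⟨i, by omega⟩ else sD F hn

/-- the longest permutation of type `D` -/
def w0D (hn : 4 ≤ n) : Equiv.Perm (Fin n) :=
  if Equiv.Perm.sign (rvPerm n) = 1 then rvPerm n
  else rvPerm n * tauS (kL (le_trans (by norm_num) hn))

/-- the longest element of type `D` -/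
def n0D (F : Type u) [Field F] (hn : 4 ≤ n) : GS n F :=
  if Equiv.Perm.sign (rvPerm n) = 1 then nLong n (Sid F)
  else nLong n (Sid F) * tL F (le_trans (by norm_num) hn)

/-- long root elements `1 + Σ_{i < n/2} c_i E_{i, n-1-i}` (they lie in `GS n F` when `2 = 0`) -/
def IsXL (x : GS n F) : Prop :=
  ∃ c : Fin n → F, (∀ i, n / 2 ≤ rk i → c i = 0) ∧
    ∀ i j, mt x i j = (if i = j then 1 else 0) + (if j = rv i then c i else 0)

/-- the image in the ambient group of the commutator subgroup of `OQ` -/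
def OmG (n : ℕ) (F : Type u) [Field F] : Subgroup (GS n F) :=
  (commutator ↥(OQ n F)).map (OQ n F).subtype

end Cfsg.Agent.Lib.helper14.DBN
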